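/-
helper58, for helper17's project S4705: the common "multiplicity" argument of modules [LAMBDA] and [SYMPERP].

`Y` a finite set of irreducible characters agreeing on `p`-regular elements, all of degree `d`, `k` prime to `|G|`,
`η' = powFun k η`.  If a character `A` agrees with `T = Σ_{η∈Y} w η • η'` on the `p`-singular elements and `A 1 = T 1`, then
either `A = T`, or there is `j ≥ 1` with `⟨A, η'⟩ + j = w η` for all `η ∈ Y`.
-/
import Mathlib
import Cfsg.Prelude.Def_Characters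
import Cfsg.Agent.Lib.Helper17.PM2.Defs
import Cfsg.Agent.Lib.Helper75.GaloisPow
import Cfsg.Agent.Lib.Helper78.CharMore
import Cfsg.Agent.Lib.Helper78.CharOrtho
import Cfsg.Agent.Lib.Helper78.CharValues

set_option autoImplicit false

open Cfsg Cfsg.Agent.Lib.Helper17.PM2
open scoped ComplexConjugate

universe u

namespace Cfsg.Agent.Lib.Helper58.S4705

open Cfsg.Agent.Lib.Helper78

variable {G : Type u} [Group G] [Fintype G]

theorem classInner_eq_of_vanish {Ψ f₁ f₂ : G → ℂ} (p : ℕ)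
    (h1 : ∀ g, p ∣ orderOf g → Ψ g = 0) (h2 : ∀ g, ¬ p ∣ orderOf g → f₁ g = f₂ g) :
    classInner Ψ f₁ = classInner Ψ f₂ := by
  unfold classInner
  congr 1
  apply Finset.sum_congr rfl
  intro g _
  by_cases hg : p ∣ orderOf g
  · rw [h1 g hg, zero_mul, zero_mul]
  · rw [h2 g hg]

theorem classInner_sub_left (f₁ f₂ ψ : G → ℂ) :
    classInner (f₁ - f₂) ψ = classInner f₁ ψ - classInner f₂ ψ := by
  unfold classInner
  rw [← mul_sub, ← Finset.sum_sub_distrib]
  congr 1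
  apply Finset.sum_congr rfl
  intro g _
  simp only [Pi.sub_apply]
  ring

omit [Fintype G] in
theorem powFun_injective {k : ℕ} (hk : k.Coprime (Nat.card G)) {η₁ η₂ : G → ℂ}
    (h : powFun k η₁ = powFun k η₂) : η₁ = η₂ := by
  funext g
  have hk' : (Nat.card G).Coprime k := hk.symm
  obtain ⟨x, hx⟩ := (powCoprime hk').surjective g
  have hx' : x ^ k = g := hx
  have := congrFun h x
  simp only [powFun] at this
  rw [hx'] at this
  exact this

omit [Fintype G] in
theorem not_dvd_orderOf_pow {p : ℕ} {g : G} (k : ℕ) (hg : ¬ p ∣ orderOf g) :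
    ¬ p ∣ orderOf (g ^ k) := fun h => hg (dvd_trans h (orderOf_pow_dvd k))

theorem isIrrCharacter_powFun {k : ℕ} (hk : k.Coprime (Nat.card G)) {η : G → ℂ}
    (hη : IsIrrCharacter G η) : IsIrrCharacter G (powFun k η) :=
  Cfsg.Agent.Lib.Helper75.isIrrCharacter_pow hη k hk

omit [Fintype G] in
theorem isCharacter_apply_one_eq_zero {B : G → ℂ} (hB : IsCharacter G B) (h1 : B 1 = 0) : B = 0 := by
  obtain ⟨n, ρ, rfl⟩ := hB
  apply character_eq_zero_of_finrank_eq_zero
  have h2 : ρ.character 1 = (Module.finrank ℂ (Fin n → ℂ) : ℂ) := Representation.char_one ρ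
  rw [h1] at h2
  exact_mod_cast h2.symm

omit [Fintype G] in
theorem isCharacter_apply_one_nat {B : G → ℂ} (hB : IsCharacter G B) : ∃ n : ℕ, B 1 = (n : ℂ) := by
  obtain ⟨n, ρ, rfl⟩ := hB
  exact ⟨Module.finrank ℂ (Fin n → ℂ), Representation.char_one ρ⟩

/-- the common multiplicity argument -/
theorem mult_dichotomy {p k d : ℕ} (hk : k.Coprime (Nat.card G)) (hd : 0 < d)
    (Y : Finset (G → ℂ)) (hYne : Y.Nonempty) (hYirr : ∀ η ∈ Y, IsIrrCharacter G η)
    (hYreg : ∀ η₁ ∈ Y, ∀ η₂ ∈ Y, ∀ g : G, ¬ p ∣ orderOf g → η₁ g = η₂ g)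
    (hYdeg : ∀ η ∈ Y, η 1 = (d : ℂ))
    (w : (G → ℂ) → ℕ) {A : G → ℂ} (hA : IsCharacter G A)
    (hvan : ∀ g : G, p ∣ orderOf g → A g = ∑ η ∈ Y, (w η : ℂ) * powFun k η g)
    (hone : A 1 = ∑ η ∈ Y, (w η : ℂ) * (d : ℂ)) :
    (∀ g : G, A g = ∑ η ∈ Y, (w η : ℂ) * powFun k η g) ∨
      ∃ j : ℕ, 1 ≤ j ∧ ∀ η ∈ Y, classInner A (powFun k η) + (j : ℂ) = (w η : ℂ) := by
  classical
  have hirr' : ∀ η ∈ Y, IsIrrCharacter G (powFun k η) := fun η hη => isIrrCharacter_powFun hk (hYirr η hη)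
  have hAcf : IsClassFunction G A := IsCharacter.isClassFunction hA
  -- multiplicities
  have hm : ∀ η : G → ℂ, ∃ n : ℕ, η ∈ Y → classInner A (powFun k η) = (n : ℂ) := by
    intro η
    by_cases hη : η ∈ Y
    · obtain ⟨n, hn⟩ := IsCharacter.exists_nat_classInner hA ⟨powFun k η, hirr' η hη⟩
      exact ⟨n, fun _ => hn⟩
    · exact ⟨0, fun h => absurd h hη⟩
  choose m hm using hm
  -- orthogonality among the η'
  have horth : ∀ η ∈ Y, ∀ η₀ ∈ Y, classInner (powFun k η) (powFun k η₀) = if η = η₀ then 1 else 0 := by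
    intro η hη η₀ hη₀
    rw [classInner_irr (hirr' η hη) (hirr' η₀ hη₀)]
    by_cases h : η = η₀
    · rw [if_pos h, if_pos (by rw [h])]
    · rw [if_neg h, if_neg (fun h' => h (powFun_injective hk h'))]
  -- T and its inner products
  set T : G → ℂ := ∑ η ∈ Y, (w η : ℂ) • powFun k η with hT
  have hTapp : ∀ g, T g = ∑ η ∈ Y, (w η : ℂ) * powFun k η g := by
    intro g
    rw [hT, Finset.sum_apply]
    simp [Pi.smul_apply, smul_eq_mul]
  have hTinner : ∀ η₀ ∈ Y, classInner T (powFun k η₀) = (w η₀ : ℂ) := by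
    intro η₀ hη₀
    rw [hT, classInner_sum_left]
    rw [Finset.sum_eq_single_of_mem η₀ hη₀]
    · rw [classInner_smul_left, horth η₀ hη₀ η₀ hη₀, if_pos rfl, mul_one]
    · intro η hη hne
      rw [classInner_smul_left, horth η hη η₀ hη₀, if_neg hne, mul_zero]
  -- constancy
  have hconst : ∀ η₁ ∈ Y, ∀ η₂ ∈ Y, (m η₁ : ℂ) - (w η₁ : ℂ) = (m η₂ : ℂ) - (w η₂ : ℂ) := by
    intro η₁ h₁ η₂ h₂
    have hΨ : ∀ g, p ∣ orderOf g → (A - T) g = 0 := by
      intro g hg
      rw [Pi.sub_apply, hvan g hg, hTapp, sub_self]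
    have hreg : ∀ g, ¬ p ∣ orderOf g → powFun k η₁ g = powFun k η₂ g := by
      intro g hg
      exact hYreg η₁ h₁ η₂ h₂ (g ^ k) (not_dvd_orderOf_pow k hg)
    have h := classInner_eq_of_vanish (Ψ := A - T) p hΨ hreg
    rw [classInner_sub_left, classInner_sub_left, hm η₁ h₁, hm η₂ h₂, hTinner η₁ h₁,
      hTinner η₂ h₂] at h
    exact h
  -- B = A - Σ m η • η' is a character
  set M : G → ℂ := ∑ η ∈ Y, (m η : ℂ) • powFun k η with hM
  have hMcf : IsClassFunction G M := by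
    rw [hM]
    apply isClassFunction_sum
    intro η hη
    exact isClassFunction_smul _ (IsCharacter.isClassFunction (IsIrrCharacter.isCharacter (hirr' η hη)))
  have hBcf : IsClassFunction G (A - M) := isClassFunction_sub hAcf hMcf
  have hMinner : ∀ χ : IrrCharacter G, classInner M (χ : G → ℂ) =
      ∑ η ∈ Y, (m η : ℂ) * (if powFun k η = (χ : G → ℂ) then 1 else 0) := by
    intro χ
    rw [hM, classInner_sum_left]
    apply Finset.sum_congr rfl
    intro η hη
    rw [classInner_smul_left, classInner_irr (hirr' η hη) χ.2]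
  have hBnat : ∀ χ : IrrCharacter G, ∃ b : ℕ, classInner (A - M) (χ : G → ℂ) = (b : ℂ) := by
    intro χ
    rw [classInner_sub_left, hMinner]
    by_cases hχ : ∃ η₀ ∈ Y, powFun k η₀ = (χ : G → ℂ)
    · obtain ⟨η₀, hη₀, hχ₀⟩ := hχ
      refine ⟨0, ?_⟩
      rw [Finset.sum_eq_single_of_mem η₀ hη₀]
      · rw [if_pos hχ₀, mul_one, ← hχ₀, hm η₀ hη₀]
        simp
      · intro η hη hne
        rw [if_neg, mul_zero]
        intro h'
        exact hne (powFun_injective hk (h'.trans hχ₀.symm))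
    · obtain ⟨n, hn⟩ := IsCharacter.exists_nat_classInner hA χ
      refine ⟨n, ?_⟩
      rw [hn, Finset.sum_eq_zero, sub_zero]
      intro η hη
      rw [if_neg, mul_zero]
      intro h'
      exact hχ ⟨η, hη, h'⟩
  have hBchar : IsCharacter G (A - M) := by
    rw [isCharacter_iff_exists_nat_combination]
    choose b hb using hBnat
    refine ⟨b, ?_⟩
    conv_lhs => rw [classFunction_eq_sum_irr hBcf]
    exact Finset.sum_congr rfl (fun χ _ => by rw [hb χ])
  obtain ⟨nB, hnB⟩ := isCharacter_apply_one_nat hBchar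
  -- degrees
  obtain ⟨ζ, hζ⟩ := hYne
  have hpow1 : ∀ η ∈ Y, powFun k η 1 = (d : ℂ) := by
    intro η hη
    simp only [powFun, one_pow]
    exact hYdeg η hη
  have hM1 : M 1 = ∑ η ∈ Y, (m η : ℂ) * (d : ℂ) := by
    rw [hM, Finset.sum_apply]
    apply Finset.sum_congr rfl
    intro η hη
    rw [Pi.smul_apply, smul_eq_mul, hpow1 η hη]
  -- c' = m ζ - w ζ as an integer
  have hmw : ∀ η ∈ Y, (m η : ℂ) = (w η : ℂ) + ((m ζ : ℂ) - (w ζ : ℂ)) := by
    intro η hη
    have := hconst η hη ζ hζ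
    linear_combination this
  have hB1 : (nB : ℂ) = -((m ζ : ℂ) - (w ζ : ℂ)) * ((Y.card : ℂ) * (d : ℂ)) := by
    rw [← hnB, Pi.sub_apply, hone, hM1, ← Finset.sum_sub_distrib]
    have hterm : ∀ η ∈ Y, (w η : ℂ) * (d : ℂ) - (m η : ℂ) * (d : ℂ) =
        -((m ζ : ℂ) - (w ζ : ℂ)) * (d : ℂ) := by
      intro η hη
      rw [hmw η hη]
      ring
    rw [Finset.sum_congr rfl hterm, Finset.sum_const, nsmul_eq_mul]
    ring
  have hB1' : (nB : ℤ) = -((m ζ : ℤ) - (w ζ : ℤ)) * ((Y.card : ℤ) * (d : ℤ)) := by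
    have h : ((nB : ℤ) : ℂ) = ((-((m ζ : ℤ) - (w ζ : ℤ)) * ((Y.card : ℤ) * (d : ℤ)) : ℤ) : ℂ) := by
      simp only [Int.cast_natCast, Int.cast_mul, Int.cast_neg, Int.cast_sub]
      exact hB1
    exact Int.cast_injective h
  have hYd : 0 < (Y.card : ℤ) * (d : ℤ) := by
    have h1 : 0 < Y.card := Finset.card_pos.mpr ⟨ζ, hζ⟩
    exact mul_pos (by exact_mod_cast h1) (by exact_mod_cast hd)
  have hle : (m ζ : ℤ) - (w ζ : ℤ) ≤ 0 := by
    by_contra hcon
    push Not at hcon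
    have : -((m ζ : ℤ) - (w ζ : ℤ)) * ((Y.card : ℤ) * (d : ℤ)) < 0 := by
      apply mul_neg_of_neg_of_pos
      · linarith
      · exact hYd
    have h0 : (0 : ℤ) ≤ (nB : ℤ) := Int.natCast_nonneg nB
    linarith
  rcases eq_or_lt_of_le hle with heq | hlt
  · -- c' = 0 : A = T
    left
    have hnB0 : nB = 0 := by
      have : (nB : ℤ) = 0 := by rw [hB1', heq]; ring
      exact_mod_cast this
    have hB0 : A - M = 0 := isCharacter_apply_one_eq_zero hBchar (by rw [hnB, hnB0]; simp)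
    intro g
    have hAM : A g = M g := by
      have := congrFun hB0 g
      simpa [sub_eq_zero] using this
    rw [hAM, hM, Finset.sum_apply]
    apply Finset.sum_congr rfl
    intro η hη
    rw [Pi.smul_apply, smul_eq_mul, hmw η hη]
    have hc : ((m ζ : ℂ) - (w ζ : ℂ)) = 0 := by
      have : (((m ζ : ℤ) - (w ζ : ℤ) : ℤ) : ℂ) = 0 := by rw [heq]; simp
      push_cast at this
      exact this
    rw [hc, add_zero]
  · right
    refine ⟨((w ζ : ℤ) - (m ζ : ℤ)).toNat, ?_, ?_⟩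
    · omega
    · intro η hη
      rw [hm η hη, hmw η hη]
      have hj : ((((w ζ : ℤ) - (m ζ : ℤ)).toNat : ℕ) : ℂ) = (w ζ : ℂ) - (m ζ : ℂ) := by
        have h1 : ((((w ζ : ℤ) - (m ζ : ℤ)).toNat : ℕ) : ℤ) = (w ζ : ℤ) - (m ζ : ℤ) :=
          Int.toNat_of_nonneg (by omega)
        have h2 : (((((w ζ : ℤ) - (m ζ : ℤ)).toNat : ℕ) : ℤ) : ℂ) = (((w ζ : ℤ) - (m ζ : ℤ) : ℤ) : ℂ) := by
          rw [h1]
        push_cast at h2
        exact h2
      rw [hj]
      ring

end Cfsg.Agent.Lib.Helper58.S4705
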