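/-
helper58, module S4705-[LAMBDA] of helper17's project S4705: `Λ²ζ = Σ_{η∈Y, η≠ζ} η^{(k)}` everywhere, given the identity
on the `p`-singular elements.
-/
import Mathlib
import Cfsg.Prelude.Def_Characters
import Cfsg.Prelude.Def_Blocks
import Cfsg.Agent.Lib.Helper17.PM2.Defs
import Cfsg.Agent.Lib.Helper73.S4705.AltSym
import Cfsg.Agent.Lib.Helper58.S4705.Common

set_option autoImplicit false

open Cfsg Cfsg.Agent.Lib.Helper17.PM2
open scoped ComplexConjugate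

universe u

namespace Cfsg.Agent.Lib.Helper58.S4705

open Cfsg.Agent.Lib.Helper78

/-- the weight `0` at `ζ`, `1` elsewhere -/
noncomputable def wLam {G : Type u} (ζ : G → ℂ) : (G → ℂ) → ℕ := by
  classical
  exact fun η => if η = ζ then 0 else 1

theorem sum_wLam {G : Type u} {ζ : G → ℂ} {Y : Finset (G → ℂ)} (hζ : ζ ∈ Y) (f : (G → ℂ) → ℂ) :
    ∑ η ∈ Y, (wLam ζ η : ℂ) * f η = ∑ η ∈ Y, f η - f ζ := by
  classical
  rw [← Finset.sum_erase_eq_sub hζ, ← Finset.filter_ne' Y ζ, Finset.sum_filter]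
  apply Finset.sum_congr rfl
  intro η _
  unfold wLam
  by_cases h : η = ζ
  · simp [h]
  · simp [h]

variable {G : Type u} [Group G] [Fintype G] {p : ℕ} (S : Setting G p)

theorem one_preg (S : Setting G p) : ¬ p ∣ orderOf (1 : G) := by
  rw [orderOf_one]
  exact fun h => S.hp.one_lt.ne' (Nat.dvd_one.mp h)

theorem Y_deg (S : Setting G p) : ∀ η ∈ S.D.Y, η 1 = ((p - 2 : ℕ) : ℂ) := by
  intro η hη
  rw [S.D.hYreg η hη 1 (one_preg S), S.hdeg, Nat.cast_sub (by have := S.h5; omega)]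
  simp

theorem Y_card_cast (S : Setting G p) : (S.D.Y.card : ℂ) = ((p : ℂ) - 1) / 2 := by
  have h := S.D.hYcard
  have h' : (2 : ℂ) * (S.D.Y.card : ℂ) + 1 = (p : ℂ) := by exact_mod_cast h
  field_simp
  linear_combination h'

theorem Y_reg2 (S : Setting G p) : ∀ η₁ ∈ S.D.Y, ∀ η₂ ∈ S.D.Y, ∀ g : G, ¬ p ∣ orderOf g → η₁ g = η₂ g := by
  intro η₁ h₁ η₂ h₂ g hg
  rw [S.D.hYreg η₁ h₁ g hg, S.D.hYreg η₂ h₂ g hg]

theorem altSq_eq (S : Setting G p)
    (hvan : ∀ g : G, p ∣ orderOf g →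
      altSq S.ζ g = ∑ η ∈ S.D.Y, powFun S.k η g - powFun S.k S.ζ g) :
    ∀ g : G, altSq S.ζ g = ∑ η ∈ S.D.Y, powFun S.k η g - powFun S.k S.ζ g := by
  have hp6 : 6 ≤ p := S.h5
  have hA : IsCharacter G (altSq S.ζ) :=
    Cfsg.Agent.Lib.Helper73.S4705.isCharacter_altSq (IsIrrCharacter.isCharacter S.hζ)
  have hd : 0 < p - 2 := by omega
  have hone : altSq S.ζ 1 = ∑ η ∈ S.D.Y, (wLam S.ζ η : ℂ) * ((p - 2 : ℕ) : ℂ) := by
    rw [sum_wLam S.D.hζY (fun _ => ((p - 2 : ℕ) : ℂ)), Finset.sum_const, nsmul_eq_mul, Y_card_cast S]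
    unfold altSq
    rw [one_pow, S.hdeg, Nat.cast_sub (by omega)]
    push_cast
    ring
  rcases mult_dichotomy (p := p) S.hk hd S.D.Y ⟨S.ζ, S.D.hζY⟩ S.D.hYirr (Y_reg2 S) (Y_deg S)
    (wLam S.ζ) hA (fun g hg => by
      rw [sum_wLam S.D.hζY (fun η => powFun S.k η g)]
      exact hvan g hg) hone with h | ⟨j, hj1, hj⟩
  · intro g
    rw [h g, sum_wLam S.D.hζY (fun η => powFun S.k η g)]
  · exfalso
    have h := hj S.ζ S.D.hζY
    obtain ⟨n, hn⟩ := IsCharacter.exists_nat_classInner hA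
      ⟨powFun S.k S.ζ, isIrrCharacter_powFun S.hk S.hζ⟩
    have hw : wLam S.ζ S.ζ = 0 := by
      unfold wLam
      simp
    rw [hn, hw] at h
    have h' : n + j = 0 := by exact_mod_cast h
    omega

end Cfsg.Agent.Lib.Helper58.S4705
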