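/-
helper58, module S4705-[SYMPERP] of helper17's project S4705: `⟨ζ², ζ^{(k)}⟩ = 0`.
-/
import Mathlib
import Cfsg.Prelude.Def_Characters
import Cfsg.Prelude.Def_Blocks
import Cfsg.Agent.Lib.Helper17.PM2.Defs
import Cfsg.Agent.Lib.Helper73.S4705.AltSym
import Cfsg.Agent.Lib.Helper58.S4705.Common
import Cfsg.Agent.Lib.Helper58.S4705.Lambda

set_option autoImplicit false

open Cfsg Cfsg.Agent.Lib.Helper17.PM2
open scoped ComplexConjugate

universe u

namespace Cfsg.Agent.Lib.Helper58.S4705

open Cfsg.Agent.Lib.Helper78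

variable {G : Type u} [Group G] [Fintype G] {p : ℕ} (S : Setting G p)

theorem sq_perp (S : Setting G p)
    (hsym : ∀ g : G, p ∣ orderOf g → symSq S.ζ g = ∑ η ∈ S.D.Y, powFun S.k η g)
    (halt : ∀ g : G, altSq S.ζ g = ∑ η ∈ S.D.Y, powFun S.k η g - powFun S.k S.ζ g)
    (t : G) (ht : orderOf t = 2) :
    classInner (fun g => S.ζ g ^ 2) (powFun S.k S.ζ) = 0 := by
  classical
  have hp6 : 6 ≤ p := S.h5
  have hA : IsCharacter G (symSq S.ζ) :=
    Cfsg.Agent.Lib.Helper73.S4705.isCharacter_symSq (IsIrrCharacter.isCharacter S.hζ)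
  have hd : 0 < p - 2 := by omega
  have hζ'irr : IsIrrCharacter G (powFun S.k S.ζ) := isIrrCharacter_powFun S.hk S.hζ
  have hone : symSq S.ζ 1 = ∑ η ∈ S.D.Y, (((fun _ => 1 : (G → ℂ) → ℕ) η : ℕ) : ℂ) * ((p - 2 : ℕ) : ℂ) := by
    rw [Finset.sum_const, nsmul_eq_mul, Y_card_cast S]
    unfold symSq
    rw [one_pow, S.hdeg, Nat.cast_sub (by omega)]
    push_cast
    ring
  -- the multiplicity of ζ' in symSq ζ vanishes
  have hsym0 : classInner (symSq S.ζ) (powFun S.k S.ζ) = 0 := by
    rcases mult_dichotomy (p := p) S.hk hd S.D.Y ⟨S.ζ, S.D.hζY⟩ S.D.hYirr (Y_reg2 S) (Y_deg S)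
      (fun _ => 1) hA (fun g hg => by
        rw [hsym g hg]
        apply Finset.sum_congr rfl
        intro η _
        simp) hone with h | ⟨j, hj1, hj⟩
    · exfalso
      -- evaluate at the involution t
      have htk : t ^ S.k = t := by
        have h1 := S.hk2 t 1 (Commute.one_right t) ⟨1, by rw [ht, pow_one]⟩ (by rw [orderOf_one]; exact odd_one)
        simpa using h1
      have htreg : ¬ p ∣ orderOf t := by
        rw [ht]
        intro hdvd
        have := Nat.le_of_dvd (by norm_num) hdvd
        omega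
      have ht2 : t ^ 2 = 1 := by rw [← ht]; exact pow_orderOf_eq_one t
      have hη't : ∀ η ∈ S.D.Y, powFun S.k η t = S.ζ t := by
        intro η hη
        simp only [powFun]
        rw [htk, S.D.hYreg η hη t htreg]
      have h1 := h t
      rw [Finset.sum_congr rfl (fun η hη => by rw [hη't η hη, Nat.cast_one, one_mul]),
        Finset.sum_const, nsmul_eq_mul, Y_card_cast S] at h1
      have h2 := halt t
      rw [Finset.sum_congr rfl (fun η hη => hη't η hη), Finset.sum_const, nsmul_eq_mul,
        Y_card_cast S, hη't S.ζ S.D.hζY] at h2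
      unfold symSq at h1
      unfold altSq at h2
      rw [ht2, S.hdeg] at h1 h2
      have h3 : S.ζ t = S.ζ 1 := by
        rw [S.hdeg]
        linear_combination h2 - h1
      have := S.hfaith t h3
      rw [this, orderOf_one] at ht
      omega
    · have h := hj S.ζ S.D.hζY
      obtain ⟨n, hn⟩ := IsCharacter.exists_nat_classInner hA ⟨powFun S.k S.ζ, hζ'irr⟩
      rw [hn] at h ⊢
      have h' : n + j = 1 := by exact_mod_cast h
      have hn0 : n = 0 := by omega
      rw [hn0]
      simp
  -- the multiplicity of ζ' in altSq ζ vanishes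
  have halt0 : classInner (altSq S.ζ) (powFun S.k S.ζ) = 0 := by
    have hfun : altSq S.ζ = ∑ η ∈ S.D.Y, powFun S.k η - powFun S.k S.ζ := by
      funext g
      rw [halt g, Pi.sub_apply, Finset.sum_apply]
    rw [hfun, classInner_sub_left, classInner_sum_left, classInner_irr_self hζ'irr,
      Finset.sum_eq_single_of_mem S.ζ S.D.hζY, classInner_irr_self hζ'irr, sub_self]
    intro η hη hne
    exact classInner_irr_ne (isIrrCharacter_powFun S.hk (S.D.hYirr η hη)) hζ'irr
      (fun h => hne (powFun_injective S.hk h))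
  have hsq : (fun g => S.ζ g ^ 2) = symSq S.ζ + altSq S.ζ := by
    funext g
    simp only [Pi.add_apply, symSq, altSq]
    ring
  rw [hsq, classInner_add_left, hsym0, halt0, add_zero]

end Cfsg.Agent.Lib.Helper58.S4705
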